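import Mathlib

/-!
Linear algebra for the count of unipotent isometries of a nondegenerate alternating form:
the fixed-space reduction `cnt P = q ^ dim P^⊥ · cnt (P + F w)`.
-/

set_option autoImplicit false
set_option linter.style.haveILetI false

open scoped Classical
open Module

namespace CfsgLib.KnownB.SympUnip

variable {F : Type*} [Field F] {V : Type*} [AddCommGroup V] [Module F V]
  {B : LinearMap.BilinForm F V}

local notation "perp" => LinearMap.BilinForm.orthogonal B

theorem mem_perp {P : Submodule F V} {x : V} :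
    x ∈ perp P ↔ ∀ y ∈ P, B y x = 0 := LinearMap.BilinForm.mem_orthogonal_iff

theorem finrank_inf_ker [FiniteDimensional F V] {X : Submodule F V} {f : V →ₗ[F] F} {x : V}
    (hx : x ∈ X) (hfx : f x ≠ 0) :
    finrank F ↥(X ⊓ LinearMap.ker f) + 1 = finrank F ↥X := by
  have h1 := (f.domRestrict X).finrank_range_add_finrank_ker
  have hr : LinearMap.range (f.domRestrict X) = ⊤ := by
    refine LinearMap.range_eq_top.2 fun a => ⟨(a / f x) • ⟨x, hx⟩, ?_⟩
    simp [hfx]
  have hk : Submodule.map X.subtype (LinearMap.ker (f.domRestrict X)) = X ⊓ LinearMap.ker f := by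
    ext y
    simp only [Submodule.mem_map, LinearMap.mem_ker, Submodule.mem_inf, Submodule.coe_subtype,
      LinearMap.domRestrict_apply]
    exact ⟨fun ⟨a, ha, e⟩ => e ▸ ⟨a.2, ha⟩, fun ⟨h, h'⟩ => ⟨⟨y, h⟩, h', rfl⟩⟩
  rw [hr, finrank_top, finrank_self] at h1
  rw [← hk, Submodule.finrank_map_subtype_eq]
  omega

/-- affine hyperplanes -/
theorem card_eq_one_fiber [Fintype F] {W : Type*} [AddCommGroup W] [Module F W] [Finite W]
    (f : W →ₗ[F] F) (hf : f ≠ 0) :
    Nat.card {x // f x = 1} = Fintype.card F ^ (finrank F W - 1) := by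
  obtain ⟨x, hx⟩ : ∃ x, f x ≠ 0 := by
    by_contra h
    push Not at h
    exact hf (LinearMap.ext h)
  have h1 : Nat.card {y // f y = 1} = Nat.card ↥(LinearMap.ker f) :=
    Nat.card_congr ((Equiv.subRight ((f x)⁻¹ • x)).subtypeEquiv fun y => by
      simp [hx, sub_eq_zero])
  have h2 := f.finrank_range_add_finrank_ker
  have hr : LinearMap.range f = ⊤ := by
    refine LinearMap.range_eq_top.2 fun a => ⟨(a / f x) • x, ?_⟩
    simp [hx]
  rw [hr, finrank_top, finrank_self] at h2
  rw [h1, Module.natCard_eq_pow_finrank (K := F), Nat.card_eq_fintype_card,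
    show finrank F ↥(LinearMap.ker f) = finrank F W - 1 by omega]

theorem neg_swap (hA : B.IsAlt) (x y : V) : B x y = -B y x := (LinearMap.IsAlt.neg hA y x).symm

/-- unipotent isometries fixing `P` pointwise -/
def IsUnip (B : LinearMap.BilinForm F V) (P : Submodule F V) (g : Module.End F V) : Prop :=
  (∀ x y, B (g x) (g y) = B x y) ∧ IsNilpotent (g - 1) ∧ ∀ x ∈ P, g x = x

/-- their number -/
noncomputable def cnt (B : LinearMap.BilinForm F V) (P : Submodule F V) : ℕ :=
  Nat.card {g // IsUnip B P g}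

theorem nilpotent_of_congr {g h : Module.End F V} {v : V} (hgv : g v = v)
    (hg : ∀ x, B v (g x) = B v x) (hh : ∀ x, B v (h x) = B v x)
    (hd : ∀ x, B v x = 0 → ∃ c : F, g x - h x = c • v) (hn : IsNilpotent (h - 1)) :
    IsNilpotent (g - 1) := by
  obtain ⟨N, hN⟩ := hn
  have hDv : (g - 1) v = 0 := by simp [hgv]
  have hE : ∀ x, B v x = 0 → ∀ n : ℕ, B v (((h - 1) ^ n : Module.End F V) x) = 0 := by
    intro x hx n
    induction n with
    | zero => simpa using hx
    | succ n ih => simp [pow_succ', hh, ih]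
  have key : ∀ x, B v x = 0 → ∀ n : ℕ, ∃ c : F,
      ((g - 1) ^ n : Module.End F V) x = ((h - 1) ^ n : Module.End F V) x + c • v := by
    intro x hx n
    induction n with
    | zero => exact ⟨0, by simp⟩
    | succ n ih =>
      obtain ⟨c, hc⟩ := ih
      obtain ⟨d, hd'⟩ := hd _ (hE x hx n)
      refine ⟨d, ?_⟩
      rw [pow_succ', pow_succ', Module.End.mul_apply, Module.End.mul_apply, hc, map_add, map_smul,
        hDv, smul_zero, add_zero]
      rw [← hd']
      simp only [LinearMap.sub_apply, Module.End.one_apply]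
      abel
  refine ⟨N + 2, LinearMap.ext fun x => ?_⟩
  have hx : B v ((g - 1) x) = 0 := by simp [hg]
  obtain ⟨c, hc⟩ := key _ hx N
  rw [hN, LinearMap.zero_apply, zero_add] at hc
  rw [pow_succ' _ (N + 1), pow_succ _ N, Module.End.mul_apply, Module.End.mul_apply, hc, map_smul,
    hDv, smul_zero, LinearMap.zero_apply]

/-- the unipotent radical element moving `w` to `w + u` -/
def shift (B : LinearMap.BilinForm F V) (v w u : V) : Module.End F V :=
  1 + (B v).smulRight (u - B u w • v) + (B u).smulRight v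

theorem shift_apply (v w u x : V) :
    shift B v w u x = x + B v x • (u - B u w • v) + B u x • v := rfl

section shift

variable {v w u : V}

theorem shift_isometry (hA : B.IsAlt) (hu : B v u = 0) (x y : V) :
    B (shift B v w u x) (shift B v w u y) = B x y := by
  have hvu : B u v = 0 := by rw [neg_swap hA, hu, neg_zero]
  simp only [shift_apply, map_add, map_smul, map_sub, LinearMap.add_apply, LinearMap.smul_apply,
    LinearMap.sub_apply, smul_eq_mul, hvu, hu, hA.self_eq_zero, neg_swap hA x v, neg_swap hA x u]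
  ring

theorem shift_neg_apply (hA : B.IsAlt) (hu : B v u = 0) (x : V) :
    shift B v w (-u) (shift B v w u x) = x := by
  have hvu : B u v = 0 := by rw [neg_swap hA, hu, neg_zero]
  simp only [shift_apply, map_add, map_smul, map_sub, map_neg, LinearMap.neg_apply,
    LinearMap.add_apply, LinearMap.smul_apply, LinearMap.sub_apply, smul_eq_mul, hvu, hu,
    hA.self_eq_zero, sub_zero, mul_zero, add_zero]
  module

theorem shift_w (hA : B.IsAlt) (hw : B v w = 1) : shift B v w u w = w + u := by
  rw [shift_apply, hw]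
  module

theorem shift_fix (hvx : B v u = 0) {x : V} (hv : B v x = 0) (hx : B u x = 0) :
    shift B v w u x = x := by
  simp [shift_apply, hv, hx]

end shift

/-- the reduction step -/
theorem cnt_step [Fintype F] [Finite V] (hA : B.IsAlt) {P : Submodule F V} {v w : V} (hvP : v ∈ P)
    (hvp : v ∈ perp P) (hw : B v w = 1) :
    cnt B P = Fintype.card F ^ finrank F ↥(perp P) * cnt B (P ⊔ Submodule.span F {w}) := by
  have hfix : ∀ g, IsUnip B (P ⊔ Submodule.span F {w}) g ↔ IsUnip B P g ∧ g w = w := by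
    intro g
    refine ⟨fun ⟨a, b, c⟩ => ⟨⟨a, b, fun x hx => c x (Submodule.mem_sup_left hx)⟩,
      c w (Submodule.mem_sup_right (Submodule.mem_span_singleton_self w))⟩, ?_⟩
    rintro ⟨⟨a, b, c⟩, d⟩
    refine ⟨a, b, fun x hx => ?_⟩
    obtain ⟨y, hy, z, hz, rfl⟩ := Submodule.mem_sup.1 hx
    obtain ⟨t, rfl⟩ := Submodule.mem_span_singleton.1 hz
    rw [map_add, map_smul, c y hy, d]
  have hpv : ∀ x ∈ P, B v x = 0 := fun x hx => by
    rw [neg_swap hA, mem_perp.1 hvp x hx, neg_zero]
  have hvu : ∀ u ∈ perp P, B v u = 0 := fun u hu => mem_perp.1 hu v hvP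
  have hsP : ∀ u ∈ perp P, ∀ x ∈ P, shift B v w u x = x := fun u hu x hx =>
    shift_fix (hvu u hu) (hpv x hx) (by rw [neg_swap hA, mem_perp.1 hu x hx, neg_zero])
  have hinv : ∀ g, IsUnip B P g → ∀ x, B v (g x) = B v x := fun g hg x => by
    conv_lhs => rw [← hg.2.2 v hvP, hg.1]
  -- multiplication by a shift keeps the conditions
  have hmul : ∀ u ∈ perp P, ∀ g, IsUnip B P g → IsUnip B P (shift B v w u * g) := by
    intro u hu g hg
    have h1 : ∀ x ∈ P, (shift B v w u * g) x = x := fun x hx => by
      rw [Module.End.mul_apply, hg.2.2 x hx, hsP u hu x hx]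
    have h0 : ∀ x y, B ((shift B v w u * g) x) ((shift B v w u * g) y) = B x y := fun x y => by
      rw [Module.End.mul_apply, Module.End.mul_apply, shift_isometry hA (hvu u hu), hg.1]
    refine ⟨h0, ?_, h1⟩
    refine nilpotent_of_congr (h1 v hvP) (fun x => ?_) (hinv g hg) (fun x hx => ⟨B u (g x), ?_⟩)
      hg.2.1
    · exact (congrArg (fun t => B t ((shift B v w u * g) x)) (h1 v hvP).symm).trans (h0 v x)
    · rw [Module.End.mul_apply, shift_apply, hinv g hg, hx, zero_smul, add_zero, add_sub_cancel_left]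
  have hmem : ∀ g, IsUnip B P g → g w - w ∈ perp P := fun g hg =>
    mem_perp.2 fun y hy => by
      rw [map_sub]
      conv_lhs => arg 1; rw [← hg.2.2 y hy, hg.1]
      rw [sub_self]
  have e : {g // IsUnip B P g} ≃ ↥(perp P) × {h // IsUnip B (P ⊔ Submodule.span F {w}) h} :=
    { toFun := fun g => (⟨g.1 w - w, hmem g.1 g.2⟩,
        ⟨shift B v w (-(g.1 w - w)) * g.1, (hfix _).2
          ⟨hmul _ (neg_mem (hmem g.1 g.2)) g.1 g.2, by
            rw [Module.End.mul_apply]
            conv_lhs => arg 2; rw [show g.1 w = w + (g.1 w - w) by abel,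
              ← shift_w hA hw]
            exact shift_neg_apply hA (hvu _ (hmem g.1 g.2)) w⟩⟩)
      invFun := fun p => ⟨shift B v w p.1 * p.2.1, hmul _ p.1.2 _ ((hfix _).1 p.2.2).1⟩
      left_inv := fun g => Subtype.ext (LinearMap.ext fun x => by
        have := shift_neg_apply (w := w) (u := -(g.1 w - w)) hA
          (by rw [map_neg, hvu _ (hmem g.1 g.2), neg_zero]) (g.1 x)
        simpa using this)
      right_inv := fun p => by
        have hu := hvu _ p.1.2
        have h1 : (shift B v w p.1 * p.2.1) w - w = (p.1 : V) := by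
          rw [Module.End.mul_apply, ((hfix _).1 p.2.2).2, shift_w hA hw, add_sub_cancel_left]
        refine Prod.ext (Subtype.ext h1) (Subtype.ext (LinearMap.ext fun x => ?_))
        show shift B v w (-((shift B v w p.1 * p.2.1) w - w)) (shift B v w p.1 (p.2.1 x)) = p.2.1 x
        rw [h1]
        exact shift_neg_apply hA hu _ }
  rw [cnt, Nat.card_congr e, Nat.card_prod, Module.natCard_eq_pow_finrank (K := F),
    Nat.card_eq_fintype_card, cnt]

section dims

variable [Fintype F] [Finite V]

theorem finrank_perp (hB : B.Nondegenerate) (P : Submodule F V) :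
    finrank F ↥(perp P) + finrank F ↥P = finrank F V := by
  have := Submodule.finrank_le P
  rw [LinearMap.BilinForm.finrank_orthogonal hB P]
  omega

theorem perp_sup (P Q : Submodule F V) : perp (P ⊔ Q) = perp P ⊓ perp Q := by
  ext x
  simp only [Submodule.mem_inf, mem_perp]
  refine ⟨fun h => ⟨fun y hy => h y (Submodule.mem_sup_left hy),
    fun y hy => h y (Submodule.mem_sup_right hy)⟩, ?_⟩
  rintro ⟨h, h'⟩ y hy
  obtain ⟨a, ha, b, hb, rfl⟩ := Submodule.mem_sup.1 hy
  rw [map_add, LinearMap.add_apply, h a ha, h' b hb, add_zero]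

theorem mem_perp_span {w x : V} : x ∈ perp (Submodule.span F {w}) ↔ B w x = 0 := by
  rw [mem_perp]
  refine ⟨fun h => h w (Submodule.mem_span_singleton_self w), fun h y hy => ?_⟩
  obtain ⟨t, rfl⟩ := Submodule.mem_span_singleton.1 hy
  simp [h]

/-- killing the radical of the fixed space -/
theorem cnt_reduce (hB : B.Nondegenerate) (hA : B.IsAlt) (r : ℕ) (P : Submodule F V)
    (hr : finrank F ↥(P ⊓ perp P) = r) :
    ∃ R : Submodule F V, R ⊓ perp R = ⊥ ∧ finrank F ↥R + r = finrank F ↥(perp P) ∧
      cnt B P = Fintype.card F ^ (∑ i ∈ Finset.range r, (finrank F ↥(perp P) - i)) *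
        cnt B (perp R) := by
  induction r generalizing P with
  | zero =>
    refine ⟨perp P, ?_, rfl, ?_⟩
    · rw [LinearMap.BilinForm.orthogonal_orthogonal hB hA.isRefl, inf_comm]
      exact Submodule.finrank_eq_zero.1 hr
    · rw [LinearMap.BilinForm.orthogonal_orthogonal hB hA.isRefl]
      simp
  | succ r ih =>
    obtain ⟨v, hv, hv0⟩ : ∃ v ∈ P ⊓ perp P, v ≠ 0 :=
      Submodule.exists_mem_ne_zero_of_ne_bot fun h => by
        rw [h, finrank_bot] at hr; omega
    obtain ⟨y, hy⟩ : ∃ y, B v y ≠ 0 := by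
      by_contra h
      push Not at h
      exact hv0 (hB.1 v h)
    obtain ⟨hvP, hvp⟩ := Submodule.mem_inf.1 hv
    have hw : B v ((B v y)⁻¹ • y) = 1 := by simp [hy]
    generalize (B v y)⁻¹ • y = w at hw
    have hpv : ∀ x ∈ P, B v x = 0 := fun x hx => by
      rw [neg_swap hA, mem_perp.1 hvp x hx, neg_zero]
    have hwP : w ∉ P := fun h => one_ne_zero (hw.symm.trans (hpv w h))
    have hrad : (P ⊔ Submodule.span F {w}) ⊓ perp (P ⊔ Submodule.span F {w}) =
        (P ⊓ perp P) ⊓ LinearMap.ker (B w) := by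
      ext x
      simp only [perp_sup, Submodule.mem_inf, LinearMap.mem_ker, mem_perp_span]
      constructor
      · rintro ⟨hx, h1, h2⟩
        obtain ⟨a, ha, z, hz, rfl⟩ := Submodule.mem_sup.1 hx
        obtain ⟨t, rfl⟩ := Submodule.mem_span_singleton.1 hz
        have h3 := mem_perp.1 h1 v hvP
        rw [map_add, map_smul, hpv a ha, hw, smul_eq_mul, mul_one, zero_add] at h3
        subst h3
        rw [zero_smul, add_zero] at h1 h2 ⊢
        exact ⟨⟨ha, h1⟩, h2⟩
      · rintro ⟨⟨hx, h1⟩, h2⟩
        exact ⟨Submodule.mem_sup_left hx, h1, h2⟩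
    have hwv : B w v ≠ 0 := by rw [neg_swap hA, hw]; simp
    have h1 := finrank_inf_ker (f := B w) hv hwv
    rw [← hrad, hr] at h1
    obtain ⟨R, hR, hdim, hcnt⟩ := ih (P ⊔ Submodule.span F {w}) (by omega)
    have h2 : finrank F ↥(perp (P ⊔ Submodule.span F {w})) + 1 = finrank F ↥(perp P) := by
      have h3 := finrank_perp hB (P ⊔ Submodule.span F {w})
      have h4 := finrank_perp hB P
      have hw0 : w ≠ 0 := fun h => hwP (h ▸ P.zero_mem)
      have h5 := Submodule.finrank_sup_add_finrank_inf_eq P (Submodule.span F {w})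
      rw [disjoint_iff.1 ((Submodule.disjoint_span_singleton' hw0).2 hwP), finrank_bot,
        finrank_span_singleton hw0] at h5
      omega
    refine ⟨R, hR, by omega, ?_⟩
    rw [cnt_step hA hvP hvp hw, hcnt, ← mul_assoc, ← pow_add]
    congr 2
    rw [Finset.sum_range_succ', ← h2, Nat.sub_zero, add_comm]
    congr 1
    exact Finset.sum_congr rfl fun i _ => by omega

end dims

end CfsgLib.KnownB.SympUnip
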