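import Cfsg.Agent.Lib.KnownB.SympUnip.Basic

/-!
Steinberg's count of the unipotent isometries of a nondegenerate alternating form: double counting
of pairs (unipotent element, totally isotropic subspace of its fixed space).
-/

set_option autoImplicit false
set_option linter.style.haveILetI false

open scoped Classical
open Module

namespace CfsgLib.KnownB.SympUnip

variable {F : Type*} [Field F] [Fintype F] {V : Type*} [AddCommGroup V] [Module F V] [Finite V]
  {B : LinearMap.BilinForm F V}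

local notation "perp" => LinearMap.BilinForm.orthogonal B
local notation "qq" => (Fintype.card F : ℚ)

theorem qq_ne_zero : qq ≠ 0 := Nat.cast_ne_zero.2 Fintype.card_ne_zero

/-- the totally isotropic subspaces of `X` -/
noncomputable def isoSet (B : LinearMap.BilinForm F V) (X : Submodule F V) :
    Finset (Submodule F V) :=
  (Set.toFinite {A : Submodule F V | A ≤ B.orthogonal A ∧ A ≤ X}).toFinset

theorem mem_isoSet {A X : Submodule F V} : A ∈ isoSet B X ↔ A ≤ perp A ∧ A ≤ X :=
  Set.Finite.mem_toFinset _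

/-- weighted sum over the totally isotropic subspaces -/
noncomputable def isum (B : LinearMap.BilinForm F V) (X : Submodule F V) (f : ℕ → ℚ) : ℚ :=
  ∑ A ∈ isoSet B X, f (finrank F ↥A)

theorem bot_mem_isoSet (X : Submodule F V) : (⊥ : Submodule F V) ∈ isoSet B X :=
  mem_isoSet.2 ⟨bot_le, bot_le⟩

theorem isum_bot (f : ℕ → ℚ) : isum B ⊥ f = f 0 := by
  have h : isoSet B (⊥ : Submodule F V) = {⊥} := Finset.ext fun A => by
    rw [mem_isoSet, Finset.mem_singleton]
    exact ⟨fun h => le_bot_iff.1 h.2, fun h => by subst h; exact ⟨bot_le, bot_le⟩⟩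
  rw [isum, h, Finset.sum_singleton, finrank_bot]

theorem iso_eq_zero {A : Submodule F V} (hA : A ≤ perp A) {a b : V} (ha : a ∈ A) (hb : b ∈ A) :
    B a b = 0 :=
  mem_perp.1 (hA hb) a ha

theorem iso_sup_span (hA : B.IsAlt) {A : Submodule F V} {z : V} (hAA : A ≤ perp A)
    (hz : ∀ a ∈ A, B z a = 0) :
    A ⊔ Submodule.span F {z} ≤ perp (A ⊔ Submodule.span F {z}) := by
  rw [perp_sup]
  refine sup_le (fun a ha => ⟨hAA ha, mem_perp_span.2 (hz a ha)⟩) ?_
  rw [Submodule.span_singleton_le_iff_mem]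
  exact ⟨mem_perp.2 fun a ha => by rw [neg_swap hA, hz a ha, neg_zero],
    mem_perp_span.2 (hA.self_eq_zero z)⟩

/-- complements of a line -/
theorem card_fibre {A' : Submodule F V} {z : V} (hz : z ∈ A') (hz0 : z ≠ 0) :
    Nat.card {A : Submodule F V // z ∉ A ∧ A ⊔ Submodule.span F {z} = A'} =
      Fintype.card F ^ (finrank F ↥A' - 1) := by
  set z' : ↥A' := ⟨z, hz⟩ with hz'
  have hz'0 : z' ≠ 0 := fun h => hz0 (congrArg Subtype.val h)
  haveI : Finite (Module.Dual F ↥A') :=
    Finite.of_injective (fun f => (f : ↥A' → F)) DFunLike.coe_injective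
  have hne : Module.Dual.eval F ↥A' z' ≠ 0 := fun h =>
    hz'0 ((Module.forall_dual_apply_eq_zero_iff F z').1 fun φ => LinearMap.congr_fun h φ)
  rw [← Subspace.dual_finrank_eq (K := F) (V := ↥A'),
    ← card_eq_one_fiber (Module.Dual.eval F ↥A' z') hne]
  symm
  refine Nat.card_congr (Equiv.ofBijective
    (fun f => ⟨(LinearMap.ker f.1).map A'.subtype, ?_, ?_⟩) ⟨?_, ?_⟩)
  · rintro ⟨x, hx, e⟩
    have : x = z' := Subtype.ext e
    subst this
    exact one_ne_zero (f.2.symm.trans hx)
  · refine le_antisymm (sup_le (Submodule.map_subtype_le _ _)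
      ((Submodule.span_singleton_le_iff_mem _ _).2 hz)) fun x hx => ?_
    have hx' : x = ((⟨x, hx⟩ : ↥A') - f.1 ⟨x, hx⟩ • z' : ↥A') + f.1 ⟨x, hx⟩ • z := by
      simp [hz']
    rw [hx']
    refine Submodule.add_mem_sup (Submodule.mem_map.2 ⟨(⟨x, hx⟩ : ↥A') - f.1 ⟨x, hx⟩ • z', ?_, rfl⟩)
      (Submodule.smul_mem _ _ (Submodule.mem_span_singleton_self z))
    have h1 : f.1 z' = 1 := f.2
    simp [h1]
  · rintro ⟨f, hf⟩ ⟨g, hg⟩ h
    have hf' : f z' = 1 := hf
    have hg' : g z' = 1 := hg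
    have h' := Submodule.map_injective_of_injective (Submodule.injective_subtype A')
      (congrArg Subtype.val h)
    refine Subtype.ext (LinearMap.ext fun x => ?_)
    have hk : x - f x • z' ∈ LinearMap.ker f := by simp [hf']
    change LinearMap.ker f = LinearMap.ker g at h'
    rw [h', LinearMap.mem_ker, map_sub, map_smul, hg', smul_eq_mul, mul_one, sub_eq_zero] at hk
    exact hk.symm
  · rintro ⟨A, hzA, hA⟩
    have hle : A ≤ A' := hA ▸ le_sup_left
    have hnot : z' ∉ A.comap A'.subtype := hzA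
    obtain ⟨f, hfz, hfA⟩ := Submodule.exists_le_ker_of_notMem hnot
    refine ⟨⟨(f z')⁻¹ • f, ?_⟩, Subtype.ext ?_⟩
    · show ((f z')⁻¹ • f) z' = 1
      simp [hfz]
    ext x
    simp only [Submodule.mem_map, LinearMap.mem_ker, LinearMap.smul_apply, smul_eq_mul,
      mul_eq_zero, inv_eq_zero, hfz, false_or, Submodule.coe_subtype]
    constructor
    · rintro ⟨y, hy, rfl⟩
      have hy' : (y : V) ∈ A ⊔ Submodule.span F {z} := hA.symm ▸ y.2
      obtain ⟨a, ha, b, hb, e⟩ := Submodule.mem_sup.1 hy'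
      obtain ⟨t, rfl⟩ := Submodule.mem_span_singleton.1 hb
      have e' : y = (⟨a, hle ha⟩ : ↥A') + t • z' := Subtype.ext e.symm
      have hfa : f ⟨a, hle ha⟩ = 0 := hfA ha
      rw [e', map_add, map_smul, hfa, zero_add, smul_eq_mul, mul_eq_zero] at hy
      rw [hy.resolve_right hfz, zero_smul, add_zero] at e
      exact e ▸ ha
    · exact fun hx => ⟨⟨x, hle hx⟩, hfA hx, rfl⟩

/-- pairing along a radical vector -/
theorem isum_radical (hA : B.IsAlt) {X : Submodule F V} {z : V} (hzX : z ∈ X) (hz0 : z ≠ 0)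
    (hz : ∀ x ∈ X, B z x = 0) (f : ℕ → ℚ) :
    isum B X f = ∑ A ∈ (isoSet B X).filter (fun A => z ∈ A),
      (f (finrank F ↥A) + qq ^ (finrank F ↥A - 1) * f (finrank F ↥A - 1)) := by
  rw [isum, ← Finset.sum_filter_add_sum_filter_not (isoSet B X) (fun A => z ∈ A),
    Finset.sum_add_distrib]
  congr 1
  rw [← Finset.sum_fiberwise_of_maps_to
    (t := (isoSet B X).filter (fun A => z ∈ A)) (g := fun A => A ⊔ Submodule.span F {z})]
  swap
  · intro A hm
    obtain ⟨hm, hzA⟩ := Finset.mem_filter.1 hm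
    obtain ⟨h1, h2⟩ := mem_isoSet.1 hm
    exact Finset.mem_filter.2 ⟨mem_isoSet.2 ⟨iso_sup_span hA h1 fun a ha => hz a (h2 ha),
      sup_le h2 ((Submodule.span_singleton_le_iff_mem _ _).2 hzX)⟩,
      Submodule.mem_sup_right (Submodule.mem_span_singleton_self z)⟩
  refine Finset.sum_congr rfl fun A' hA' => ?_
  obtain ⟨hA', hzA'⟩ := Finset.mem_filter.1 hA'
  obtain ⟨h1, h2⟩ := mem_isoSet.1 hA'
  have hdim : ∀ A ∈ ((isoSet B X).filter (fun A => ¬ z ∈ A)).filter
      (fun A => A ⊔ Submodule.span F {z} = A'), finrank F ↥A = finrank F ↥A' - 1 := by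
    intro A hm
    simp only [Finset.mem_filter] at hm
    have := Submodule.finrank_sup_add_finrank_inf_eq A (Submodule.span F {z})
    rw [disjoint_iff.1 ((Submodule.disjoint_span_singleton' hz0).2 hm.1.2), finrank_bot,
      finrank_span_singleton hz0, hm.2] at this
    omega
  rw [Finset.sum_congr rfl fun A hm => congrArg f (hdim A hm), Finset.sum_const, nsmul_eq_mul]
  congr 1
  have hc := card_fibre hzA' hz0
  rw [← Nat.subtype_card (p := fun A : Submodule F V => z ∉ A ∧ A ⊔ Submodule.span F {z} = A')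
    (((isoSet B X).filter (fun A => ¬ z ∈ A)).filter
      (fun A => A ⊔ Submodule.span F {z} = A')), hc]
  · norm_num
  · intro A
    simp only [Finset.mem_filter, mem_isoSet]
    refine ⟨fun h => ⟨h.1.2, h.2⟩, fun h => ⟨⟨?_, h.1⟩, h.2⟩⟩
    have hle : A ≤ A' := h.2 ▸ le_sup_left
    exact ⟨hle.trans (h1.trans (LinearMap.BilinForm.orthogonal_le hle)), hle.trans h2⟩

variable (B) in
/-- nondegenerate subspace of dimension `2 * m` -/
def IsND (m : ℕ) (R : Submodule F V) : Prop := R ⊓ perp R = ⊥ ∧ finrank F ↥R = 2 * m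

theorem IsND.eq_zero {m : ℕ} {R : Submodule F V} (h : IsND B m R) {x : V} (hx : x ∈ R)
    (hx' : ∀ y ∈ R, B y x = 0) : x = 0 := by
  have : x ∈ R ⊓ perp R := ⟨hx, mem_perp.2 hx'⟩
  rwa [h.1, Submodule.mem_bot] at this

theorem IsND.pair (hA : B.IsAlt) {m : ℕ} {R : Submodule F V} (h : IsND B (m + 1) R) {z z' : V}
    (hz : z ∈ R) (hz' : z' ∈ R) (hzz : B z z' = 1) :
    IsND B m (R ⊓ LinearMap.ker (B z) ⊓ LinearMap.ker (B z')) := by
  have hz'z : B z' z = -1 := by rw [neg_swap hA, hzz]
  refine ⟨?_, ?_⟩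
  · rw [Submodule.eq_bot_iff]
    rintro x ⟨⟨⟨hxR, hx1⟩, hx2⟩, hx⟩
    rw [SetLike.mem_coe, LinearMap.mem_ker] at hx1 hx2
    refine h.eq_zero hxR fun y hy => ?_
    have hπ : y + B z' y • z - B z y • z' ∈ R ⊓ LinearMap.ker (B z) ⊓ LinearMap.ker (B z') := by
      refine ⟨⟨sub_mem (add_mem hy (R.smul_mem _ hz)) (R.smul_mem _ hz'), ?_⟩, ?_⟩
      · simp [hzz, hA.self_eq_zero]
      · simp [hz'z, hA.self_eq_zero]
    have := mem_perp.1 hx _ hπ
    simpa [hx1, hx2] using this
  · have h1 := finrank_inf_ker (f := B z) hz' (by rw [hzz]; exact one_ne_zero)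
    have h2 := finrank_inf_ker (f := B z') (X := R ⊓ LinearMap.ker (B z)) (x := z)
      ⟨hz, hA.self_eq_zero z⟩ (by rw [hz'z]; simp)
    have h3 := h.2
    omega

/-- subspaces through a point are subspaces of the perpendicular of a pair -/
theorem sum_through (hA : B.IsAlt) {R : Submodule F V} {z z' : V} (hz : z ∈ R)
    (hzz : B z z' = 1) (g : ℕ → ℚ) :
    ∑ A ∈ (isoSet B R).filter (fun A => z ∈ A), g (finrank F ↥A) =
      isum B (R ⊓ LinearMap.ker (B z) ⊓ LinearMap.ker (B z')) (fun j => g (j + 1)) := by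
  have hz'z : B z' z = -1 := by rw [neg_swap hA, hzz]
  have hz'0 : B z' z ≠ 0 := by rw [hz'z]; simp
  refine Finset.sum_bij' (fun A _ => A ⊓ LinearMap.ker (B z'))
    (fun A _ => A ⊔ Submodule.span F {z}) ?_ ?_ ?_ ?_ ?_
  · intro A hm
    obtain ⟨hm, hzA⟩ := Finset.mem_filter.1 hm
    obtain ⟨h1, h2⟩ := mem_isoSet.1 hm
    exact mem_isoSet.2 ⟨inf_le_left.trans (h1.trans (LinearMap.BilinForm.orthogonal_le inf_le_left)),
      fun a ha => ⟨⟨h2 ha.1, iso_eq_zero h1 hzA ha.1⟩, ha.2⟩⟩
  · intro A hm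
    obtain ⟨h1, h2⟩ := mem_isoSet.1 hm
    exact Finset.mem_filter.2 ⟨mem_isoSet.2 ⟨iso_sup_span hA h1 fun a ha => (h2 ha).1.2,
      sup_le (fun a ha => (h2 ha).1.1) ((Submodule.span_singleton_le_iff_mem _ _).2 hz)⟩,
      Submodule.mem_sup_right (Submodule.mem_span_singleton_self z)⟩
  · intro A hm
    obtain ⟨hm, hzA⟩ := Finset.mem_filter.1 hm
    refine le_antisymm (sup_le inf_le_left ((Submodule.span_singleton_le_iff_mem _ _).2 hzA))
      fun a ha => ?_
    have hd : a = (a + B z' a • z) + (-(B z' a)) • z := by module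
    rw [hd]
    exact Submodule.add_mem_sup
      ⟨add_mem ha (A.smul_mem _ hzA), by simp [hz'z]⟩
      (Submodule.smul_mem _ _ (Submodule.mem_span_singleton_self z))
  · intro A hm
    obtain ⟨h1, h2⟩ := mem_isoSet.1 hm
    refine le_antisymm (fun a ha => ?_) fun a ha =>
      ⟨Submodule.mem_sup_left ha, (h2 ha).2⟩
    obtain ⟨b, hb, c, hc, rfl⟩ := Submodule.mem_sup.1 ha.1
    obtain ⟨t, rfl⟩ := Submodule.mem_span_singleton.1 hc
    have h3 : B z' (b + t • z) = 0 := ha.2
    rw [map_add, map_smul, (h2 hb).2, zero_add, smul_eq_mul, mul_eq_zero] at h3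
    rwa [h3.resolve_right hz'0, zero_smul, add_zero]
  · intro A hm
    obtain ⟨hm, hzA⟩ := Finset.mem_filter.1 hm
    show g _ = g (finrank F ↥(A ⊓ LinearMap.ker (B z')) + 1)
    rw [finrank_inf_ker hzA hz'0]

/-- the recursion for weighted counts of totally isotropic subspaces -/
noncomputable def E (q : ℚ) : ℕ → (ℕ → ℚ) → ℚ
  | 0, f => f 0
  | m + 1, f => E q m fun j => f (j + 1) + q ^ j * f j + q ^ (2 * m + 1) * (f (j + 1) / q ^ j)

theorem isum_eq_E (hA : B.IsAlt) (m : ℕ) (R : Submodule F V) (h : IsND B m R) (f : ℕ → ℚ) :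
    isum B R f = E qq m f := by
  induction m generalizing R f with
  | zero =>
    have : R = ⊥ := Submodule.finrank_eq_zero.1 (by simpa using h.2)
    subst this
    exact isum_bot f
  | succ m ih =>
    obtain ⟨v, hv, hv0⟩ : ∃ v ∈ R, v ≠ 0 := Submodule.exists_mem_ne_zero_of_ne_bot fun e => by
      have := h.2
      rw [e, finrank_bot] at this
      omega
    obtain ⟨y, hy, hvy⟩ : ∃ y ∈ R, B v y ≠ 0 := by
      by_contra e
      push Not at e
      exact hv0 (h.eq_zero hv fun y hy => by rw [neg_swap hA, e y hy, neg_zero])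
    have hw : B v ((B v y)⁻¹ • y) = 1 := by simp [hvy]
    have hwR : (B v y)⁻¹ • y ∈ R := R.smul_mem _ hy
    generalize (B v y)⁻¹ • y = w at hw hwR
    have hmin : ∀ u ∈ R, B v u = 1 → B u (-v) = 1 := fun u _ hu => by
      rw [map_neg, neg_swap hA u v, hu, neg_neg]
    -- subspaces inside the hyperplane
    have hX : (isoSet B R).filter (fun A => A ≤ LinearMap.ker (B v)) =
        isoSet B (R ⊓ LinearMap.ker (B v)) := Finset.ext fun A => by
      simp [Finset.mem_filter, mem_isoSet, and_assoc]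
    have hthr : (isoSet B (R ⊓ LinearMap.ker (B v))).filter (fun A => v ∈ A) =
        (isoSet B R).filter (fun A => v ∈ A) := Finset.ext fun A => by
      simp only [Finset.mem_filter, mem_isoSet, le_inf_iff]
      refine ⟨fun h => ⟨⟨h.1.1, h.1.2.1⟩, h.2⟩, fun h => ⟨⟨h.1.1, h.1.2, ?_⟩, h.2⟩⟩
      exact fun a ha => iso_eq_zero h.1.1 h.2 ha
    have h1 : isum B (R ⊓ LinearMap.ker (B v)) f =
        isum B (R ⊓ LinearMap.ker (B v) ⊓ LinearMap.ker (B w)) (fun j => f (j + 1) + qq ^ j * f j) := by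
      rw [isum_radical hA (X := R ⊓ LinearMap.ker (B v)) (z := v) ⟨hv, hA.self_eq_zero v⟩ hv0
          (fun x hx => hx.2) f, hthr,
        sum_through hA hv hw (fun k => f k + qq ^ (k - 1) * f (k - 1))]
      simp
    -- the other ones, counted with a point off the hyperplane
    set Y : Finset V := (Set.toFinite {u : V | u ∈ R ∧ B v u = 1}).toFinset with hYdef
    have hYmem : ∀ u, u ∈ Y ↔ u ∈ R ∧ B v u = 1 := fun u => Set.Finite.mem_toFinset _
    have hfib : ∀ A : Submodule F V, A ≤ R → ¬ A ≤ LinearMap.ker (B v) →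
        (Y.filter (fun u => u ∈ A)).card = Fintype.card F ^ (finrank F ↥A - 1) := by
      intro A hAR hAv
      obtain ⟨a, ha, hav⟩ := SetLike.not_le_iff_exists.1 hAv
      rw [← card_eq_one_fiber ((B v).domRestrict A) fun e => hav (LinearMap.congr_fun e ⟨a, ha⟩),
        ← Nat.card_eq_finsetCard]
      exact Nat.card_congr
        { toFun := fun u => ⟨⟨u.1, (Finset.mem_filter.1 u.2).2⟩,
            ((hYmem _).1 (Finset.mem_filter.1 u.2).1).2⟩
          invFun := fun u => ⟨u.1.1, Finset.mem_filter.2 ⟨(hYmem _).2 ⟨hAR u.1.2, u.2⟩, u.1.2⟩⟩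
          left_inv := fun _ => rfl
          right_inv := fun _ => rfl }
    have hY : (Y.card : ℚ) = qq ^ (2 * m + 1) := by
      have := hfib R le_rfl fun e => one_ne_zero (hw.symm.trans (e hwR))
      rw [h.2, Finset.filter_true_of_mem fun u hu => ((hYmem u).1 hu).1] at this
      rw [this, show 2 * (m + 1) - 1 = 2 * m + 1 by omega]
      norm_num
    have h2 : ∑ A ∈ (isoSet B R).filter (fun A => ¬ A ≤ LinearMap.ker (B v)), f (finrank F ↥A) =
        isum B (R ⊓ LinearMap.ker (B v) ⊓ LinearMap.ker (B w))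
          (fun j => qq ^ (2 * m + 1) * (f (j + 1) / qq ^ j)) := by
      calc ∑ A ∈ (isoSet B R).filter (fun A => ¬ A ≤ LinearMap.ker (B v)), f (finrank F ↥A)
          = ∑ A ∈ (isoSet B R).filter (fun A => ¬ A ≤ LinearMap.ker (B v)),
              ∑ u ∈ Y.filter (fun u => u ∈ A), f (finrank F ↥A) / qq ^ (finrank F ↥A - 1) := by
            refine Finset.sum_congr rfl fun A hm => ?_
            obtain ⟨hm, hAv⟩ := Finset.mem_filter.1 hm
            rw [Finset.sum_const, nsmul_eq_mul, hfib A (mem_isoSet.1 hm).2 hAv, Nat.cast_pow,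
              mul_div_cancel₀ _ (pow_ne_zero _ qq_ne_zero)]
        _ = ∑ u ∈ Y, ∑ A ∈ (isoSet B R).filter (fun A => u ∈ A),
              f (finrank F ↥A) / qq ^ (finrank F ↥A - 1) :=
            Finset.sum_comm' fun A u => by
              simp only [Finset.mem_filter]
              refine ⟨fun h => ⟨⟨h.1.1, h.2.2⟩, h.2.1⟩, fun h => ⟨⟨h.1.1, ?_⟩, h.2, h.1.2⟩⟩
              exact fun e => one_ne_zero (((hYmem u).1 h.2).2.symm.trans (e h.1.2))
        _ = ∑ u ∈ Y, E qq m (fun j => f (j + 1) / qq ^ j) := by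
            refine Finset.sum_congr rfl fun u hu => ?_
            obtain ⟨huR, hu1⟩ := (hYmem u).1 hu
            rw [sum_through hA huR (hmin u huR hu1) (fun k => f k / qq ^ (k - 1)),
              ih _ (h.pair hA huR (neg_mem hv) (hmin u huR hu1))]
            simp
        _ = _ := by
            rw [Finset.sum_const, nsmul_eq_mul, hY, ← ih _ (h.pair hA hv hwR hw), isum, isum,
              Finset.mul_sum]
    rw [E, ← ih _ (h.pair hA hv hwR hw), isum,
      ← Finset.sum_filter_add_sum_filter_not (isoSet B R) (fun A => A ≤ LinearMap.ker (B v)), hX,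
      ← isum, h1, h2, isum, isum, ← Finset.sum_add_distrib]
    rfl

theorem E_congr {q : ℚ} (m : ℕ) {f g : ℕ → ℚ} (h : ∀ j ≤ m, f j = g j) : E q m f = E q m g := by
  induction m generalizing f g with
  | zero => exact h 0 le_rfl
  | succ m ih =>
    exact ih fun j hj => by simp only [h (j + 1) (by omega), h j (by omega)]

theorem E_smul {q : ℚ} (m : ℕ) (c : ℚ) (f : ℕ → ℚ) :
    E q m (fun j => c * f j) = c * E q m f := by
  induction m generalizing f with
  | zero => rfl
  | succ m ih =>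
    rw [E, E, ← ih]
    exact E_congr m fun j _ => by ring

theorem choose_two_succ (j : ℕ) : (j + 1).choose 2 = j.choose 2 + j := by
  rw [Nat.choose_succ_succ', Nat.choose_one_right, add_comm]

/-- the weight `(-1)^j q^(j choose 2)` -/
def wt (q : ℚ) (j : ℕ) : ℚ := (-1) ^ j * q ^ j.choose 2

theorem E_wt {q : ℚ} (hq : q ≠ 0) (m : ℕ) : E q m (wt q) = (-1) ^ m * q ^ (m ^ 2) := by
  induction m with
  | zero => simp [E, wt]
  | succ m ih =>
    rw [E, E_congr (g := fun j => -(q ^ (2 * m + 1)) * wt q j) m (fun j _ => ?_), E_smul, ih]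
    · rw [show (m + 1) ^ 2 = m ^ 2 + (2 * m + 1) by ring, pow_add, pow_succ]
      ring
    · simp only [wt, choose_two_succ, pow_add, pow_one]
      field_simp
      ring

theorem E_sq {q : ℚ} (hq : q ≠ 0) (m : ℕ) :
    E q m (fun j => (-1) ^ j * q ^ ((m - j) ^ 2)) = (-1) ^ m := by
  induction m with
  | zero => simp [E]
  | succ m ih =>
    rw [E, E_congr (g := fun j => (-1) * ((-1) ^ j * q ^ ((m - j) ^ 2))) m (fun j hj => ?_),
      E_smul, ih]
    · rw [pow_succ]; ring
    · obtain ⟨d, rfl⟩ := Nat.exists_eq_add_of_le hj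
      simp only [show j + d + 1 - (j + 1) = d by omega, show j + d + 1 - j = d + 1 by omega,
        show j + d - j = d by omega, show (d + 1) ^ 2 = d ^ 2 + 2 * d + 1 by ring,
        show 2 * (j + d) + 1 = 2 * j + (2 * d + 1) by ring, pow_add, pow_mul', pow_one]
      field_simp
      ring

theorem exp_identity (k n : ℕ) :
    ∑ i ∈ Finset.range k, (n + k - i) + k.choose 2 = n * k + k * k := by
  induction k with
  | zero => simp
  | succ k ih =>
    rw [Finset.sum_range_succ', choose_two_succ,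
      Finset.sum_congr rfl fun i (_ : i ∈ Finset.range k) =>
        show n + (k + 1) - (i + 1) = n + k - i by omega]
    rw [Nat.sub_zero]
    linarith

/-- a vector in the radical of the fixed space of a non-identity unipotent isometry -/
theorem exists_radical (hB : B.Nondegenerate) (hA : B.IsAlt) {R : Submodule F V}
    {g : Module.End F V} (hg : IsUnip B (perp R) g) (hne : g ≠ 1) :
    ∃ z ∈ R ⊓ LinearMap.ker (g - 1), z ≠ 0 ∧ ∀ x ∈ R ⊓ LinearMap.ker (g - 1), B z x = 0 := by
  obtain ⟨y, hy, hy'⟩ : ∃ y, (g - 1) y ≠ 0 ∧ (g - 1) ((g - 1) y) = 0 := by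
    by_contra h
    push Not at h
    obtain ⟨N, hN⟩ := hg.2.1
    have key : ∀ (n : ℕ) (x : V), ((g - 1) ^ n : Module.End F V) x = 0 → (g - 1) x = 0 := by
      intro n
      induction n with
      | zero => intro x hx; simp at hx; simp [hx]
      | succ n ih =>
        intro x hx
        rw [pow_succ, Module.End.mul_apply] at hx
        have h1 := ih _ hx
        by_contra h2
        exact h x h2 h1
    exact hne (sub_eq_zero.1 (LinearMap.ext fun x => key N x (by rw [hN]; rfl)))
  have hker : ∀ a, g a = a → B a ((g - 1) y) = 0 := fun a ha => by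
    rw [LinearMap.sub_apply, Module.End.one_apply, map_sub]
    conv_lhs => arg 1; rw [← ha, hg.1]
    rw [sub_self]
  have hR : (g - 1) y ∈ R := by
    rw [← LinearMap.BilinForm.orthogonal_orthogonal hB hA.isRefl R]
    exact mem_perp.2 fun a ha => hker a (hg.2.2 a ha)
  refine ⟨(g - 1) y, ⟨hR, hy'⟩, hy, fun x hx => ?_⟩
  rw [neg_swap hA, hker x (sub_eq_zero.1 hx.2), neg_zero]

/-- Steinberg's count, for a nondegenerate subspace -/
theorem cnt_perp (hB : B.Nondegenerate) (hA : B.IsAlt) (m : ℕ) :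
    ∀ R : Submodule F V, IsND B m R → cnt B (perp R) = Fintype.card F ^ (2 * m ^ 2) := by
  induction m using Nat.strong_induction_on with
  | _ m ih =>
  intro R hR
  have hq : qq ≠ 0 := qq_ne_zero
  haveI : Finite (Module.End F V) :=
    Finite.of_injective (fun g => (g : V → V)) DFunLike.coe_injective
  set U : Finset (Module.End F V) :=
    (Set.toFinite {g | IsUnip B (perp R) g}).toFinset with hUdef
  have hU : ∀ g, g ∈ U ↔ IsUnip B (perp R) g := fun g => Set.Finite.mem_toFinset _
  -- elements fixing an isotropic subspace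
  have hcount : ∀ A ∈ isoSet B R,
      (U.filter (fun g => A ≤ LinearMap.ker (g - 1))).card = cnt B (perp R ⊔ A) := by
    intro A _
    rw [cnt, Nat.subtype_card (U.filter fun g => A ≤ LinearMap.ker (g - 1))]
    intro g
    rw [Finset.mem_filter, hU]
    constructor
    · rintro ⟨⟨a, b, c⟩, d⟩
      refine ⟨a, b, fun x hx => ?_⟩
      obtain ⟨y, hy, z, hz, rfl⟩ := Submodule.mem_sup.1 hx
      have : g z = z := sub_eq_zero.1 (d hz)
      rw [map_add, c y hy, this]
    · rintro ⟨a, b, c⟩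
      exact ⟨⟨a, b, fun x hx => c x (Submodule.mem_sup_left hx)⟩,
        fun z hz => sub_eq_zero.2 (c z (Submodule.mem_sup_right hz))⟩
  have hdouble : ∑ A ∈ isoSet B R, wt qq (finrank F ↥A) * (cnt B (perp R ⊔ A) : ℚ) =
      (-1) ^ m * qq ^ (m ^ 2) := by
    calc ∑ A ∈ isoSet B R, wt qq (finrank F ↥A) * (cnt B (perp R ⊔ A) : ℚ)
        = ∑ A ∈ isoSet B R, ∑ g ∈ U.filter (fun g => A ≤ LinearMap.ker (g - 1)),
            wt qq (finrank F ↥A) := Finset.sum_congr rfl fun A hm => by
          rw [Finset.sum_const, nsmul_eq_mul, hcount A hm, mul_comm]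
      _ = ∑ g ∈ U, isum B (R ⊓ LinearMap.ker (g - 1)) (wt qq) :=
          Finset.sum_comm' fun A g => by
            simp only [Finset.mem_filter, mem_isoSet, le_inf_iff]
            tauto
      _ = _ := by
          rw [Finset.sum_eq_single (1 : Module.End F V)]
          · rw [sub_self, LinearMap.ker_zero, inf_top_eq, isum_eq_E hA m R hR, E_wt hq]
          · intro g hgU hg1
            obtain ⟨z, hz, hz0, hzr⟩ := exists_radical hB hA ((hU g).1 hgU) hg1
            rw [isum_radical hA hz hz0 hzr]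
            refine Finset.sum_eq_zero fun A hA' => ?_
            have hzA := (Finset.mem_filter.1 hA').2
            obtain ⟨k, hk⟩ : ∃ k, finrank F ↥A = k + 1 := Nat.exists_eq_succ_of_ne_zero fun e => by
              rw [Submodule.finrank_eq_zero.1 e, Submodule.mem_bot] at hzA
              exact hz0 hzA
            rw [hk, Nat.add_sub_cancel]
            simp only [wt, choose_two_succ, pow_add, pow_one]
            ring
          · intro h
            exact absurd ((hU 1).2 ⟨fun _ _ => rfl, by simp, fun _ _ => rfl⟩) h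
  have hterm : ∀ A ∈ (isoSet B R).erase ⊥, wt qq (finrank F ↥A) * (cnt B (perp R ⊔ A) : ℚ) =
      qq ^ (m ^ 2) * ((-1) ^ finrank F ↥A * qq ^ ((m - finrank F ↥A) ^ 2)) := by
    intro A hm
    obtain ⟨hne, hm⟩ := Finset.mem_erase.1 hm
    obtain ⟨hiso, hAR⟩ := mem_isoSet.1 hm
    have hk : finrank F ↥A ≠ 0 := fun e => hne (Submodule.finrank_eq_zero.1 e)
    have hrad : (perp R ⊔ A) ⊓ perp (perp R ⊔ A) = A := by
      rw [perp_sup, LinearMap.BilinForm.orthogonal_orthogonal hB hA.isRefl]
      refine le_antisymm (fun x hx => ?_) fun x hx =>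
        ⟨Submodule.mem_sup_right hx, hAR hx, hiso hx⟩
      obtain ⟨hx, hxR, -⟩ := hx
      obtain ⟨y, hy, a, ha, rfl⟩ := Submodule.mem_sup.1 hx
      have : y ∈ R ⊓ perp R := ⟨by simpa using R.sub_mem hxR (hAR ha), hy⟩
      rw [hR.1, Submodule.mem_bot] at this
      rwa [this, zero_add]
    have hdis : perp R ⊓ A = ⊥ := eq_bot_iff.2 fun x hx => by
      rw [← hR.1]; exact ⟨hAR hx.2, hx.1⟩
    have h1 := Submodule.finrank_sup_add_finrank_inf_eq (perp R) A
    rw [hdis, finrank_bot] at h1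
    have h2 := finrank_perp hB (perp R ⊔ A)
    have h3 := finrank_perp hB R
    have h4 := hR.2
    obtain ⟨R', hR', hdim, hcnt⟩ := cnt_reduce hB hA (finrank F ↥A) (perp R ⊔ A) (by rw [hrad])
    have hkm : finrank F ↥A ≤ m := by omega
    obtain ⟨d, hd⟩ := Nat.exists_eq_add_of_le hkm
    rw [hcnt, ih d (by omega) R' ⟨hR', by omega⟩,
      show finrank F ↥(perp (perp R ⊔ A)) = 2 * d + finrank F ↥A by omega]
    generalize finrank F ↥A = k at hd
    subst hd
    rw [Nat.add_sub_cancel_left, wt, Nat.cast_mul, Nat.cast_pow, Nat.cast_pow, mul_assoc,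
      ← pow_add, ← pow_add, mul_left_comm, ← pow_add]
    congr 2
    have h5 := exp_identity k (2 * d)
    rw [add_sq]
    linarith
  have htot : ∑ A ∈ isoSet B R, qq ^ (m ^ 2) * ((-1) ^ finrank F ↥A *
      qq ^ ((m - finrank F ↥A) ^ 2)) = (-1) ^ m * qq ^ (m ^ 2) := by
    rw [← Finset.mul_sum]
    show qq ^ (m ^ 2) * isum B R (fun j => (-1) ^ j * qq ^ ((m - j) ^ 2)) = _
    rw [isum_eq_E hA m R hR, E_sq hq, mul_comm]
  rw [← Finset.add_sum_erase _ _ (bot_mem_isoSet R), Finset.sum_congr rfl hterm] at hdouble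
  rw [← Finset.add_sum_erase _ _ (bot_mem_isoSet R)] at htot
  simp only [finrank_bot, wt, sup_bot_eq, pow_zero, Nat.choose_zero_succ, one_mul, Nat.sub_zero]
    at hdouble htot
  have key : (cnt B (perp R) : ℚ) = qq ^ (m ^ 2) * qq ^ (m ^ 2) := by linarith
  rw [← pow_add, ← two_mul] at key
  exact_mod_cast key

end CfsgLib.KnownB.SympUnip
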